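import Mathlib.CategoryTheory.Abelian.Injective.Resolution
import Mathlib.Algebra.Homology.Homotopy
import Mathlib.Algebra.Homology.QuasiIso

/-!
A contractible cochain complex indexed by `ℕ` mapping degreewise split onto a given one.
-/

open CategoryTheory Limits ZeroObject

namespace Groth.Agent.CohDer7.NatDiscs

universe v u

variable {C : Type u} [Category.{v} C] [Abelian C] (I : CochainComplex C ℕ)

/-- The previous term. -/
noncomputable def Pr : ℕ → C
  | 0 => 0
  | p + 1 => I.X p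

/-- The incoming differential. -/
noncomputable def e : ∀ p, Pr I p ⟶ I.X p
  | 0 => 0
  | p + 1 => I.d p (p + 1)

lemma e_d : ∀ p, e I p ≫ I.d p (p + 1) = 0
  | 0 => by simp [e]
  | p + 1 => I.d_comp_d p (p + 1) (p + 2)

/-- The identification with the previous term. -/
noncomputable def toPr (p : ℕ) : I.X p ⟶ Pr I (p + 1) := 𝟙 (I.X p)

/-- The identification with the previous term. -/
noncomputable def fromPr (p : ℕ) : Pr I (p + 1) ⟶ I.X p := 𝟙 (I.X p)

@[reassoc (attr := simp)]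
lemma toPr_fromPr (p : ℕ) : toPr I p ≫ fromPr I p = 𝟙 _ := Category.comp_id _

@[reassoc (attr := simp)]
lemma fromPr_toPr (p : ℕ) : fromPr I p ≫ toPr I p = 𝟙 _ := Category.comp_id (𝟙 (I.X p))

@[reassoc (attr := simp)]
lemma toPr_e (p : ℕ) : toPr I p ≫ e I (p + 1) = I.d p (p + 1) := Category.id_comp _

/-- The differential of the contractible complex. -/
noncomputable def dd (p : ℕ) : I.X p ⊞ Pr I p ⟶ I.X (p + 1) ⊞ Pr I (p + 1) :=
  biprod.fst ≫ toPr I p ≫ biprod.inr

lemma dd_dd (p : ℕ) : dd I p ≫ dd I (p + 1) = 0 := by simp [dd]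

/-- The contractible complex. -/
noncomputable def cx : CochainComplex C ℕ :=
  CochainComplex.of (fun p => I.X p ⊞ Pr I p) (dd I) (dd_dd I)

lemma cx_d (p : ℕ) : (cx I).d p (p + 1) = dd I p := by simp [cx]

/-- The projection. -/
noncomputable def q : cx I ⟶ I where
  f p := biprod.desc (𝟙 _) (e I p)
  comm' := by
    intro p p' h
    obtain rfl : p + 1 = p' := h
    rw [cx_d]
    show (biprod.desc (𝟙 _) (e I p) : I.X p ⊞ Pr I p ⟶ I.X p) ≫ I.d p (p + 1) =
      dd I p ≫ biprod.desc (𝟙 _) (e I (p + 1))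
    refine biprod.hom_ext' _ _ ?_ ?_
    · simp [dd]
    · simp [dd, e_d]

/-- The contracting homotopy. -/
noncomputable def h : ∀ i j, (cx I).X i ⟶ (cx I).X j := fun i j =>
  if h : j + 1 = i then by
    subst h
    exact (biprod.snd : I.X (j + 1) ⊞ Pr I (j + 1) ⟶ Pr I (j + 1)) ≫ fromPr I j ≫
      (biprod.inl : I.X j ⟶ I.X j ⊞ Pr I j)
  else 0

/-- Contractibility. -/
noncomputable def contraction : Homotopy (𝟙 (cx I)) 0 where
  hom := h I
  zero i j hij := dif_neg hij
  comm i := by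
    have h1 : ∀ j, h I (j + 1) j = (biprod.snd : I.X (j + 1) ⊞ Pr I (j + 1) ⟶ Pr I (j + 1)) ≫
        fromPr I j ≫ (biprod.inl : I.X j ⟶ I.X j ⊞ Pr I j) := fun j => dif_pos rfl
    rw [dNext_eq _ (show (ComplexShape.up ℕ).Rel i (i + 1) from rfl), cx_d, h1,
      HomologicalComplex.id_f, HomologicalComplex.zero_f, add_zero]
    rcases i with _ | i
    · rw [prevD_eq_zero _ _ (fun hh => by simp at hh), add_zero]
      show 𝟙 (I.X 0 ⊞ Pr I 0) = dd I 0 ≫ biprod.snd ≫ fromPr I 0 ≫ biprod.inl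
      refine biprod.hom_ext' _ _ ?_ ((isZero_zero C).eq_of_src _ _)
      simp [dd]
    · rw [prevD_eq _ (show (ComplexShape.up ℕ).Rel i (i + 1) from rfl), cx_d, h1]
      show 𝟙 (I.X (i + 1) ⊞ Pr I (i + 1)) = dd I (i + 1) ≫ biprod.snd ≫ fromPr I (i + 1) ≫ biprod.inl
        + (biprod.snd ≫ fromPr I i ≫ biprod.inl) ≫ dd I i
      refine biprod.hom_ext' _ _ ?_ ?_ <;> simp [dd] <;>
        exact ((congrArg _ biprod.total).trans (Category.comp_id _)).symm

end Groth.Agent.CohDer7.NatDiscs
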