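import Mathlib.Algebra.Homology.HomotopyCategory.Pretriangulated
import Mathlib.Algebra.Homology.Embedding.CochainComplex
import Mathlib.CategoryTheory.Triangulated.Basic

/-!
Factorisations of maps of cochain complexes over an additive category through termwise split maps.
-/

open CategoryTheory Limits
open CochainComplex CochainComplex.HomComplex

namespace Groth.Agent.CohDer7

universe v u

variable {V : Type u} [Category.{v} V] [Preadditive V] [HasBinaryBiproducts V]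

/-- A split mono with a complement. -/
lemma exists_iso_biprod_inl {K Y C : V} (α : K ⟶ Y) (r : Y ⟶ K) (j : K ⟶ Y) (u : Y ⟶ C) (k : C ⟶ Y)
    (hαr : α ≫ r = 𝟙 K) (hku : k ≫ u = 𝟙 C) (hkr : k ≫ r = 0) (htot : r ≫ j + u ≫ k = 𝟙 Y) :
    ∃ e : Y ≅ K ⊞ C, α ≫ e.hom = biprod.inl := by
  have h1 : α = j + α ≫ u ≫ k := by
    calc α = α ≫ (r ≫ j + u ≫ k) := by rw [htot, Category.comp_id]
      _ = j + α ≫ u ≫ k := by rw [Preadditive.comp_add, reassoc_of% hαr]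
  refine ⟨⟨biprod.lift r (u - r ≫ α ≫ u), biprod.desc α k, ?_, ?_⟩, ?_⟩
  · rw [biprod.lift_desc, Preadditive.sub_comp, Category.assoc, Category.assoc]
    have h2 : α ≫ u ≫ k = α - j := eq_sub_of_add_eq' h1.symm
    rw [h2, Preadditive.comp_sub, ← htot]
    abel
  · refine biprod.hom_ext' _ _ ?_ ?_ <;> refine biprod.hom_ext _ _ ?_ ?_
    · simp [hαr]
    · simp [reassoc_of% hαr]
    · simp [hkr]
    · simp [hku, reassoc_of% hkr]
  · refine biprod.hom_ext _ _ ?_ ?_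
    · simp [hαr]
    · simp [reassoc_of% hαr]

/-- A split epi with a complement. -/
lemma exists_iso_biprod_snd {L Y C : V} (p : Y ⟶ L) (t : L ⟶ Y) (q : Y ⟶ L) (u : Y ⟶ C) (k : C ⟶ Y)
    (htp : t ≫ p = 𝟙 L) (hku : k ≫ u = 𝟙 C) (htu : t ≫ u = 0) (htot : q ≫ t + u ≫ k = 𝟙 Y) :
    ∃ e : Y ≅ C ⊞ L, e.inv ≫ p = biprod.snd := by
  have h1 : p = q + u ≫ k ≫ p := by
    calc p = (q ≫ t + u ≫ k) ≫ p := by rw [htot, Category.id_comp]
      _ = q + u ≫ k ≫ p := by rw [Preadditive.add_comp, Category.assoc, htp, Category.comp_id, Category.assoc]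
  refine ⟨⟨biprod.lift u p, biprod.desc (k - k ≫ p ≫ t) t, ?_, ?_⟩, ?_⟩
  · rw [biprod.lift_desc, Preadditive.comp_sub]
    have h2 : u ≫ k ≫ p = p - q := eq_sub_of_add_eq' h1.symm
    rw [← Category.assoc k, ← Category.assoc u (k ≫ p), h2, Preadditive.sub_comp, ← htot]
    abel
  · refine biprod.hom_ext' _ _ ?_ ?_ <;> refine biprod.hom_ext _ _ ?_ ?_
    · simp [hku, htu]
    · simp [htp]
    · simp [htu]
    · simp [htp]
  · refine biprod.hom_ext' _ _ ?_ ?_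
    · simp [htp]
    · simp [htp]

omit [HasBinaryBiproducts V] in
lemma key {A B P Q : V} (s : A ⟶ B) (b : B ≅ P) (g : P ⟶ Q) (m : Q ⟶ B) (t : B ⟶ A)
    (hm : g ≫ m = -b.inv) (hst : s ≫ t = 𝟙 A) : -((s ≫ b.hom) ≫ g ≫ m ≫ t) = 𝟙 A := by
  rw [reassoc_of% hm]
  simp [hst]

lemma isZero_biprod_X (L M : CochainComplex V ℤ) (n : ℤ) (h₁ : IsZero (L.X n)) (h₂ : IsZero (M.X n)) :
    IsZero ((L ⊞ M).X n) := by
  rw [IsZero.iff_id_eq_zero, ← HomologicalComplex.id_f, ← biprod.total, HomologicalComplex.add_f_apply,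
    HomologicalComplex.comp_f, HomologicalComplex.comp_f,
    h₁.eq_of_tgt ((biprod.fst : L ⊞ M ⟶ L).f n) 0, h₂.eq_of_tgt ((biprod.snd : L ⊞ M ⟶ M).f n) 0]
  simp

/-- A projection from a biproduct with a contractible complex is inverse up to homotopy to the
inclusion. -/
theorem biprod_fst_inl_homotopy (L M : CochainComplex V ℤ) (h : Homotopy (𝟙 M) 0) :
    Nonempty (Homotopy ((biprod.fst : L ⊞ M ⟶ L) ≫ biprod.inl) (𝟙 (L ⊞ M))) := by
  have h₁ := (h.compRight (biprod.inr : M ⟶ L ⊞ M)).compLeft (biprod.snd : L ⊞ M ⟶ M)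
  have h₂ := Homotopy.add (Homotopy.refl ((biprod.fst : L ⊞ M ⟶ L) ≫ biprod.inl)) h₁
  exact ⟨(Homotopy.ofEq (by simp)).trans (h₂.symm.trans (Homotopy.ofEq (by simp)))⟩

theorem exists_split_injective_factorization (K L : CochainComplex V ℤ) (α : K ⟶ L) :
    ∃ (L' : CochainComplex V ℤ) (α' : K ⟶ L') (π : L' ⟶ L) (s : L ⟶ L'),
      α' ≫ π = α ∧ s ≫ π = 𝟙 L ∧ Nonempty (Homotopy (π ≫ s) (𝟙 L')) ∧
      (∀ n : ℤ, ∃ (C : V) (e : L'.X n ≅ K.X n ⊞ C), α'.f n ≫ e.hom = biprod.inl) ∧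
      (∀ a : ℤ, K.IsStrictlyGE a → L.IsStrictlyGE a → ∃ a' : ℤ, L'.IsStrictlyGE a') ∧
      (∀ a : ℤ, K.IsStrictlyLE a → L.IsStrictlyLE a → ∃ a' : ℤ, L'.IsStrictlyLE a') := by
  let M := mappingCone (𝟙 K)
  refine ⟨L ⊞ M, biprod.lift α (mappingCone.inr (𝟙 K)), biprod.fst, biprod.inl, by simp, by simp,
    biprod_fst_inl_homotopy L M (mappingCone.homotopyToZeroOfId K), fun n => ?_, ?_, ?_⟩
  · let f₁ := (biprod.fst : L ⊞ M ⟶ L).f n
    let f₂ := (biprod.snd : L ⊞ M ⟶ M).f n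
    let i₁ := (biprod.inl : L ⟶ L ⊞ M).f n
    let i₂ := (biprod.inr : M ⟶ L ⊞ M).f n
    refine ⟨L.X n ⊞ K.X (n + 1), exists_iso_biprod_inl _
      (f₂ ≫ (mappingCone.snd (𝟙 K)).v n n (add_zero n))
      ((mappingCone.inr (𝟙 K)).f n ≫ i₂)
      (biprod.lift f₁ (f₂ ≫ (mappingCone.fst (𝟙 K)).1.v n (n + 1) rfl))
      (biprod.desc i₁ ((mappingCone.inl (𝟙 K)).v (n + 1) n (by lia) ≫ i₂)) ?_ ?_ ?_ ?_⟩
    · simp [f₂, ← HomologicalComplex.comp_f_assoc]
    · refine biprod.hom_ext' _ _ ?_ ?_ <;> refine biprod.hom_ext _ _ ?_ ?_ <;>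
        simp [f₁, f₂, i₁, i₂, M, ← HomologicalComplex.comp_f_assoc, ← HomologicalComplex.comp_f]
    · refine biprod.hom_ext' _ _ ?_ ?_ <;>
        simp [f₂, i₁, i₂, M, ← HomologicalComplex.comp_f_assoc]
    · calc _ = f₁ ≫ i₁ + f₂ ≫ ((mappingCone.fst (𝟙 K)).1.v n (n + 1) rfl ≫
              (mappingCone.inl (𝟙 K)).v (n + 1) n (by lia) +
            (mappingCone.snd (𝟙 K)).v n n (add_zero n) ≫ (mappingCone.inr (𝟙 K)).f n) ≫ i₂ := by
            simp only [biprod.lift_desc, Preadditive.comp_add, Preadditive.add_comp, Category.assoc]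
            abel
        _ = (biprod.fst ≫ biprod.inl + biprod.snd ≫ biprod.inr : L ⊞ M ⟶ L ⊞ M).f n := by
            rw [mappingCone.id_X, Category.id_comp]; rfl
        _ = 𝟙 _ := by rw [biprod.total]; rfl
  · intro a _ _
    refine ⟨a - 1, ?_⟩
    rw [isStrictlyGE_iff]
    intro i hi
    exact isZero_biprod_X _ _ i (L.isZero_of_isStrictlyGE a i (by lia))
      ((mappingCone.isZero_X_iff _ i).2
        ⟨K.isZero_of_isStrictlyGE a (i + 1) (by lia), K.isZero_of_isStrictlyGE a i (by lia)⟩)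
  · intro a _ _
    refine ⟨a, ?_⟩
    rw [isStrictlyLE_iff]
    intro i hi
    exact isZero_biprod_X _ _ i (L.isZero_of_isStrictlyLE a i (by lia))
      ((mappingCone.isZero_X_iff _ i).2
        ⟨K.isZero_of_isStrictlyLE a (i + 1) (by lia), K.isZero_of_isStrictlyLE a i (by lia)⟩)

variable [HasZeroObject V]

theorem exists_split_surjective_factorization (K L : CochainComplex V ℤ) (α : K ⟶ L) :
    ∃ (K' : CochainComplex V ℤ) (i : K ⟶ K') (α' : K' ⟶ L) (s : K' ⟶ K),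
      i ≫ α' = α ∧ i ≫ s = 𝟙 K ∧ Nonempty (Homotopy (s ≫ i) (𝟙 K')) ∧
      (∀ n : ℤ, ∃ (C : V) (e : K'.X n ≅ C ⊞ L.X n), e.inv ≫ α'.f n = biprod.snd) ∧
      (∀ a : ℤ, K.IsStrictlyGE a → L.IsStrictlyGE a → ∃ a' : ℤ, K'.IsStrictlyGE a') ∧
      (∀ a : ℤ, K.IsStrictlyLE a → L.IsStrictlyLE a → ∃ a' : ℤ, K'.IsStrictlyLE a') := by
  let L₁ := (CategoryTheory.shiftFunctor (CochainComplex V ℤ) (-1 : ℤ)).obj L
  let σ : (CategoryTheory.shiftFunctor (CochainComplex V ℤ) (1 : ℤ)).obj L₁ ≅ L :=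
    (shiftFunctorCompIsoId (CochainComplex V ℤ) (-1 : ℤ) 1 (by lia)).app L
  let M := mappingCone (𝟙 L₁)
  let δ : M ⟶ L := (mappingCone.triangle (𝟙 L₁)).mor₃ ≫ σ.hom
  refine ⟨K ⊞ M, biprod.inl, biprod.desc α δ, biprod.fst, by simp, by simp,
    biprod_fst_inl_homotopy K M (mappingCone.homotopyToZeroOfId L₁), fun n => ?_, ?_, ?_⟩
  · let f₁ := (biprod.fst : K ⊞ M ⟶ K).f n
    let f₂ := (biprod.snd : K ⊞ M ⟶ M).f n
    let i₁ := (biprod.inl : K ⟶ K ⊞ M).f n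
    let i₂ := (biprod.inr : M ⟶ K ⊞ M).f n
    let c : L.X n ≅ L₁.X (n + 1) :=
      (HomologicalComplex.Hom.isoApp σ n).symm ≪≫
        CochainComplex.shiftFunctorObjXIso L₁ 1 n (n + 1) rfl
    refine ⟨K.X n ⊞ L₁.X n, exists_iso_biprod_snd _
      (-(c.hom ≫ (mappingCone.inl (𝟙 L₁)).v (n + 1) n (by lia) ≫ i₂))
      (-(f₂ ≫ (mappingCone.fst (𝟙 L₁)).1.v n (n + 1) rfl ≫ c.inv))
      (biprod.lift f₁ (f₂ ≫ (mappingCone.snd (𝟙 L₁)).v n n (add_zero n)))
      (biprod.desc i₁ ((mappingCone.inr (𝟙 L₁)).f n ≫ i₂)) ?_ ?_ ?_ ?_⟩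
    · have h₁ : i₂ ≫ (biprod.desc α δ).f n =
          (mappingCone.triangle (𝟙 L₁)).mor₃.f n ≫ σ.hom.f n := by
        rw [← HomologicalComplex.comp_f, biprod.inr_desc]
        rfl
      rw [Preadditive.neg_comp, Category.assoc, Category.assoc, h₁]
      exact key (σ.inv.f n) (CochainComplex.shiftFunctorObjXIso L₁ 1 n (n + 1) rfl) _ _ (σ.hom.f n)
        (mappingCone.inl_v_triangle_mor₃_f (𝟙 L₁) (n + 1) n (by lia)) (by
          rw [← HomologicalComplex.comp_f, Iso.inv_hom_id]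
          rfl)
    · refine biprod.hom_ext' _ _ ?_ ?_ <;> refine biprod.hom_ext _ _ ?_ ?_ <;>
        simp [f₁, f₂, i₁, i₂, M, ← HomologicalComplex.comp_f_assoc, ← HomologicalComplex.comp_f]
    · refine biprod.hom_ext _ _ ?_ ?_ <;>
        simp [f₁, f₂, i₂, M, ← HomologicalComplex.comp_f_assoc, ← HomologicalComplex.comp_f]
    · calc _ = f₁ ≫ i₁ + f₂ ≫ ((mappingCone.fst (𝟙 L₁)).1.v n (n + 1) rfl ≫
              (mappingCone.inl (𝟙 L₁)).v (n + 1) n (by lia) +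
            (mappingCone.snd (𝟙 L₁)).v n n (add_zero n) ≫ (mappingCone.inr (𝟙 L₁)).f n) ≫ i₂ := by
            simp only [biprod.lift_desc, Preadditive.comp_add, Preadditive.add_comp, Category.assoc,
              Preadditive.neg_comp, Preadditive.comp_neg, neg_neg, Iso.inv_hom_id_assoc]
            abel
        _ = (biprod.fst ≫ biprod.inl + biprod.snd ≫ biprod.inr : K ⊞ M ⟶ K ⊞ M).f n := by
            rw [mappingCone.id_X, Category.id_comp]; rfl
        _ = 𝟙 _ := by rw [biprod.total]; rfl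
  · intro a h₁ h₂
    refine ⟨a, ?_⟩
    rw [isStrictlyGE_iff]
    intro i hi
    have hz : ∀ j : ℤ, j ≤ i + 1 → IsZero (L₁.X j) := fun j hj =>
      (L.isZero_of_isStrictlyGE a (j + -1) (by lia)).of_iso
        (CochainComplex.shiftFunctorObjXIso L (-1) j (j + -1) rfl)
    exact isZero_biprod_X _ _ i (K.isZero_of_isStrictlyGE a i (by lia))
      ((mappingCone.isZero_X_iff _ i).2 ⟨hz _ le_rfl, hz _ (by lia)⟩)
  · intro a h₁ h₂
    refine ⟨a + 1, ?_⟩
    rw [isStrictlyLE_iff]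
    intro i hi
    have hz : ∀ j : ℤ, a + 1 < j → IsZero (L₁.X j) := fun j hj =>
      (L.isZero_of_isStrictlyLE a (j + -1) (by lia)).of_iso
        (CochainComplex.shiftFunctorObjXIso L (-1) j (j + -1) rfl)
    exact isZero_biprod_X _ _ i (K.isZero_of_isStrictlyLE a i (by lia))
      ((mappingCone.isZero_X_iff _ i).2 ⟨hz _ (by lia), hz _ (by lia)⟩)

end Groth.Agent.CohDer7
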